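import Groth.Agent.L20.SmoothAt.Scheme
import Groth.Agent.L23.SchemeFacts
import Mathlib.AlgebraicGeometry.Noetherian

/-!
# Smooth neighbourhoods and closed points of affine opens
-/

set_option autoImplicit false
set_option backward.isDefEq.respectTransparency.types false
set_option linter.style.haveILetI false

universe u

open CategoryTheory CategoryTheory.Limits AlgebraicGeometry IsLocalRing

noncomputable section

namespace Groth.L20.SmoothAt

variable {X Y : Scheme.{u}} (f : X ⟶ Y) [LocallyOfFinitePresentation f]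

theorem smooth_ι_smoothLocus : Smooth (f.smoothLocus.ι ≫ f) := by
  rw [← Scheme.Hom.smoothLocus_eq_top_iff, ← Scheme.Hom.preimage_smoothLocus_eq,
    Scheme.Opens.ι_preimage_self]

theorem mem_smoothLocus_iff_exists (x : X) :
    x ∈ f.smoothLocus ↔ ∃ U : X.Opens, x ∈ U ∧ Smooth (U.ι ≫ f) := by
  refine ⟨fun h => ⟨f.smoothLocus, h, smooth_ι_smoothLocus f⟩, ?_⟩
  rintro ⟨U, hx, hU⟩
  have h := Scheme.Hom.preimage_smoothLocus_eq U.ι f
  rw [Scheme.Hom.smoothLocus_eq_top (U.ι ≫ f)] at h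
  have : (⟨x, hx⟩ : U) ∈ U.ι ⁻¹ᵁ f.smoothLocus := by rw [h]; trivial
  exact this

/-- A morphism is smooth if it is smooth at the closed points of affine opens over affine opens. -/
theorem smooth_of_closedPoints
    (H : ∀ (V : Y.Opens) (hV : IsAffineOpen V) (U : X.Opens) (hU : IsAffineOpen U)
      (_ : U ≤ f ⁻¹ᵁ V) (p : PrimeSpectrum Γ(X, U)), p.asIdeal.IsMaximal →
      hU.fromSpec p ∈ f.smoothLocus) : Smooth f := by
  rw [← Scheme.Hom.smoothLocus_eq_top_iff, ← top_le_iff]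
  rintro x -
  obtain ⟨_, ⟨V, hV, rfl⟩, hxV, -⟩ :=
    Y.isBasis_affineOpens.exists_subset_of_mem_open (Set.mem_univ (f x)) isOpen_univ
  obtain ⟨_, ⟨U, hU, rfl⟩, hxU, e⟩ :=
    X.isBasis_affineOpens.exists_subset_of_mem_open (show x ∈ f ⁻¹ᵁ V from hxV) (f ⁻¹ᵁ V).isOpen
  set p : PrimeSpectrum Γ(X, U) := hU.primeIdealOf ⟨x, hxU⟩
  obtain ⟨m, hm, hle⟩ := Ideal.exists_le_maximal p.asIdeal p.isPrime.ne_top
  let mm : PrimeSpectrum Γ(X, U) := ⟨m, hm.isPrime⟩
  have hmem : hU.fromSpec mm ∈ f.smoothLocus := H V hV U hU e mm hm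
  have hs : p ⤳ mm := (PrimeSpectrum.le_iff_specializes _ _).1 hle
  have := hs.mem_open (s := (hU.fromSpec ⁻¹ᵁ f.smoothLocus : (Spec Γ(X, U)).Opens).1)
    (hU.fromSpec ⁻¹ᵁ f.smoothLocus).2 hmem
  change hU.fromSpec p ∈ f.smoothLocus at this
  rwa [hU.fromSpec_primeIdealOf] at this

end Groth.L20.SmoothAt
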