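import Groth.Agent.L20.SmoothAt.Ring
import Mathlib.AlgebraicGeometry.Morphisms.Smooth
import Mathlib.AlgebraicGeometry.Morphisms.FiniteType
import Mathlib.AlgebraicGeometry.Stalk

/-!
# Smoothness at a point of a morphism of schemes and lifting along extensions of local rings
-/

set_option autoImplicit false
set_option backward.isDefEq.respectTransparency.types false
set_option linter.style.haveILetI false
set_option linter.unusedSectionVars false

universe u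

open CategoryTheory CategoryTheory.Limits AlgebraicGeometry IsLocalRing

noncomputable section

namespace Groth.L20.SmoothAt

variable {B' B : Type u} [CommRing B'] [CommRing B] [IsLocalRing B'] [IsLocalRing B]

theorem specMap_closedPoint (π : B' →+* B) (hπ : Function.Surjective π) :
    Spec.map (CommRingCat.ofHom π) (closedPoint B) = closedPoint B' := by
  haveI : IsLocalHom π := IsLocalHom.of_surjective π hπ
  exact IsLocalRing.comap_closedPoint π

theorem range_subset_of_closedPoint_mem {X : Scheme.{u}} (γ : Spec (CommRingCat.of B) ⟶ X)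
    (U : X.Opens) (h : γ (closedPoint B) ∈ U) : Set.range γ ⊆ U := by
  have e : γ ⁻¹ᵁ U = ⊤ := IsLocalRing.closed_point_mem_iff.1 h
  rintro _ ⟨p, rfl⟩
  show p ∈ γ ⁻¹ᵁ U
  rw [e]
  trivial

theorem exists_eq_specMap_fromSpec {X : Scheme.{u}} {U : X.Opens} (hU : IsAffineOpen U)
    (γ : Spec (CommRingCat.of B) ⟶ X) (h : γ (closedPoint B) ∈ U) :
    ∃ g : Γ(X, U) →+* B, Spec.map (CommRingCat.ofHom g) ≫ hU.fromSpec = γ := by
  have hr : Set.range γ ⊆ Set.range hU.fromSpec := by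
    rw [hU.range_fromSpec]; exact range_subset_of_closedPoint_mem γ U h
  refine ⟨(Spec.preimage (IsOpenImmersion.lift hU.fromSpec γ hr)).hom, ?_⟩
  rw [CommRingCat.ofHom_hom, Spec.map_preimage, IsOpenImmersion.lift_fac]

theorem eq_of_specMap_fromSpec {X : Scheme.{u}} {U : X.Opens} (hU : IsAffineOpen U) {C : Type u}
    [CommRing C] {g g' : Γ(X, U) →+* C}
    (h : Spec.map (CommRingCat.ofHom g) ≫ hU.fromSpec = Spec.map (CommRingCat.ofHom g') ≫ hU.fromSpec) :
    g = g' :=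
  congrArg CommRingCat.Hom.hom (Spec.map_injective ((cancel_mono hU.fromSpec).1 h))

theorem specMap_fromSpec_closedPoint_iff {X : Scheme.{u}} {U : X.Opens} (hU : IsAffineOpen U)
    {x : X} (hx : x ∈ U) (g : Γ(X, U) →+* B) :
    (Spec.map (CommRingCat.ofHom g) ≫ hU.fromSpec) (closedPoint B) = x ↔
      (maximalIdeal B).comap g = (hU.primeIdealOf ⟨x, hx⟩).asIdeal := by
  rw [Scheme.Hom.comp_apply]
  have e := hU.fromSpec_primeIdealOf ⟨x, hx⟩
  refine ⟨fun h => ?_, fun h => ?_⟩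
  · exact congrArg PrimeSpectrum.asIdeal (hU.fromSpec.isOpenEmbedding.injective (h.trans e.symm))
  · exact (congrArg (fun p => hU.fromSpec p)
      (PrimeSpectrum.ext (x := Spec.map (CommRingCat.ofHom g) (closedPoint B)) h)).trans e

variable {X Y : Scheme.{u}} (f : X ⟶ Y) {U : X.Opens} {V : Y.Opens} (hU : IsAffineOpen U)
  (hV : IsAffineOpen V) (e : U ≤ f ⁻¹ᵁ V) {x : X} (hx : x ∈ U)
  (π : B' →+* B) (hπ : Function.Surjective π)

theorem specMap_square {g : Γ(X, U) →+* B} {ψ : Γ(Y, V) →+* B'}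
    (h : g.comp (f.appLE V U e).hom = π.comp ψ) :
    Spec.map (CommRingCat.ofHom π) ≫ Spec.map (CommRingCat.ofHom ψ) ≫ hV.fromSpec =
      (Spec.map (CommRingCat.ofHom g) ≫ hU.fromSpec) ≫ f := by
  rw [Category.assoc, ← IsAffineOpen.SpecMap_appLE_fromSpec f hV hU e, ← Spec.map_comp_assoc,
    ← Spec.map_comp_assoc]
  congr 2
  exact CommRingCat.hom_ext h.symm

include hx hπ in
theorem ring_of_mor {g : Γ(X, U) →+* B} {ψ : Γ(Y, V) →+* B'}
    (hg : (maximalIdeal B).comap g = (hU.primeIdealOf ⟨x, hx⟩).asIdeal)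
    (γ : Spec (CommRingCat.of B') ⟶ X)
    (h₁ : Spec.map (CommRingCat.ofHom π) ≫ γ = Spec.map (CommRingCat.ofHom g) ≫ hU.fromSpec)
    (h₂ : γ ≫ f = Spec.map (CommRingCat.ofHom ψ) ≫ hV.fromSpec) :
    ∃ g' : Γ(X, U) →+* B', π.comp g' = g ∧ g'.comp (f.appLE V U e).hom = ψ := by
  obtain ⟨g', hg'⟩ := exists_eq_specMap_fromSpec hU γ (by
    rw [← specMap_closedPoint π hπ, ← Scheme.Hom.comp_apply, h₁,
      (specMap_fromSpec_closedPoint_iff hU hx g).2 hg]
    exact hx)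
  refine ⟨g', eq_of_specMap_fromSpec hU ?_, eq_of_specMap_fromSpec hV ?_⟩
  · rw [CommRingCat.ofHom_comp, Spec.map_comp, Category.assoc, hg', h₁]
  · rw [CommRingCat.ofHom_comp, Spec.map_comp, Category.assoc, CommRingCat.ofHom_hom,
      IsAffineOpen.SpecMap_appLE_fromSpec f hV hU e, ← Category.assoc, hg', h₂]

include hU hV e hx hπ in
theorem mor_of_ring
    (H : ∀ (g : Γ(X, U) →+* B) (ψ : Γ(Y, V) →+* B'), g.comp (f.appLE V U e).hom = π.comp ψ →
      (maximalIdeal B).comap g = (hU.primeIdealOf ⟨x, hx⟩).asIdeal →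
      ∃ g' : Γ(X, U) →+* B', π.comp g' = g ∧ g'.comp (f.appLE V U e).hom = ψ)
    (α : Spec (CommRingCat.of B) ⟶ X) (β : Spec (CommRingCat.of B') ⟶ Y)
    (hα : α (closedPoint B) = x) (w : Spec.map (CommRingCat.ofHom π) ≫ β = α ≫ f) :
    ∃ γ : Spec (CommRingCat.of B') ⟶ X, Spec.map (CommRingCat.ofHom π) ≫ γ = α ∧ γ ≫ f = β := by
  obtain ⟨g, rfl⟩ := exists_eq_specMap_fromSpec hU α (hα ▸ hx)
  obtain ⟨ψ, rfl⟩ := exists_eq_specMap_fromSpec hV β (by
    rw [← specMap_closedPoint π hπ, ← Scheme.Hom.comp_apply, w, Scheme.Hom.comp_apply, hα]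
    exact e hx)
  have hcompat : g.comp (f.appLE V U e).hom = π.comp ψ := eq_of_specMap_fromSpec hV (by
    rw [CommRingCat.ofHom_comp, Spec.map_comp, Category.assoc, CommRingCat.ofHom_hom,
      IsAffineOpen.SpecMap_appLE_fromSpec f hV hU e, CommRingCat.ofHom_comp, Spec.map_comp,
      Category.assoc, w, Category.assoc])
  obtain ⟨g', hg'₁, hg'₂⟩ := H g ψ hcompat ((specMap_fromSpec_closedPoint_iff hU hx g).1 hα)
  refine ⟨Spec.map (CommRingCat.ofHom g') ≫ hU.fromSpec, ?_, ?_⟩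
  · rw [← Spec.map_comp_assoc, ← CommRingCat.ofHom_comp, hg'₁]
  · rw [Category.assoc, ← IsAffineOpen.SpecMap_appLE_fromSpec f hV hU e, ← Spec.map_comp_assoc]
    congr 2
    exact CommRingCat.hom_ext hg'₂

section Main

variable [LocallyOfFinitePresentation f]

theorem exists_lift_of_mem_smoothLocus (hx' : x ∈ f.smoothLocus)
    (π : B' →+* B) (hπ : Function.Surjective π) (hnil : IsNilpotent (RingHom.ker π))
    (α : Spec (CommRingCat.of B) ⟶ X) (β : Spec (CommRingCat.of B') ⟶ Y)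
    (hα : α (closedPoint B) = x) (w : Spec.map (CommRingCat.ofHom π) ≫ β = α ≫ f) :
    ∃ γ : Spec (CommRingCat.of B') ⟶ X, Spec.map (CommRingCat.ofHom π) ≫ γ = α ∧ γ ≫ f = β := by
  obtain ⟨_, ⟨V, hV, rfl⟩, hxV, -⟩ :=
    Y.isBasis_affineOpens.exists_subset_of_mem_open (Set.mem_univ (f x)) isOpen_univ
  obtain ⟨_, ⟨U, hU, rfl⟩, hxU, e⟩ :=
    X.isBasis_affineOpens.exists_subset_of_mem_open (show x ∈ f ⁻¹ᵁ V from hxV) (f ⁻¹ᵁ V).isOpen
  refine mor_of_ring f hU hV e hxU π hπ (fun g ψ hc hg => ?_) α β hα w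
  letI := (f.appLE V U e).hom.toAlgebra
  haveI : Algebra.IsSmoothAt Γ(Y, V) (hU.primeIdealOf ⟨x, hxU⟩).asIdeal :=
    (formallySmooth_stalkMap_iff V hV U hU e hxU).1 hx'
  letI := ψ.toAlgebra
  letI := (π.comp ψ).toAlgebra
  let π' : B' →ₐ[Γ(Y, V)] B := { π with commutes' := fun _ => rfl }
  let g' : Γ(X, U) →ₐ[Γ(Y, V)] B := { g with commutes' := fun r => RingHom.congr_fun hc r }
  obtain ⟨k, hk⟩ := exists_lift_of_isSmoothAt _ π' hπ hnil g' hg
  exact ⟨k.toRingHom, congrArg AlgHom.toRingHom hk, k.comp_algebraMap⟩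

theorem mem_smoothLocus_of_sqZero
    (H : ∀ (B' B : Type u) [CommRing B'] [CommRing B] [IsLocalRing B'] [IsLocalRing B]
      (π : B' →+* B), Function.Surjective π → RingHom.ker π ^ 2 = ⊥ →
      ∀ (α : Spec (CommRingCat.of B) ⟶ X) (β : Spec (CommRingCat.of B') ⟶ Y),
        α (closedPoint B) = x → Spec.map (CommRingCat.ofHom π) ≫ β = α ≫ f →
        ∃ γ : Spec (CommRingCat.of B') ⟶ X, Spec.map (CommRingCat.ofHom π) ≫ γ = α ∧ γ ≫ f = β) :
    x ∈ f.smoothLocus := by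
  obtain ⟨_, ⟨V, hV, rfl⟩, hxV, -⟩ :=
    Y.isBasis_affineOpens.exists_subset_of_mem_open (Set.mem_univ (f x)) isOpen_univ
  obtain ⟨_, ⟨U, hU, rfl⟩, hxU, e⟩ :=
    X.isBasis_affineOpens.exists_subset_of_mem_open (show x ∈ f ⁻¹ᵁ V from hxV) (f ⁻¹ᵁ V).isOpen
  letI := (f.appLE V U e).hom.toAlgebra
  refine (formallySmooth_stalkMap_iff V hV U hU e hxU).2 ?_
  refine isSmoothAt_of_liftsSq (hU.primeIdealOf ⟨x, hxU⟩).asIdeal ?_
  intro B' B _ _ _ _ _ _ π hπ hsq g hg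
  have hc : g.toRingHom.comp (f.appLE V U e).hom = π.toRingHom.comp (algebraMap Γ(Y, V) B') :=
    g.comp_algebraMap.trans π.comp_algebraMap.symm
  obtain ⟨γ, h₁, h₂⟩ := H B' B π.toRingHom hπ hsq _ _
    ((specMap_fromSpec_closedPoint_iff hU hxU g.toRingHom).2 hg) (specMap_square f hU hV e _ hc)
  obtain ⟨g', hg₁, hg₂⟩ := ring_of_mor f hU hV e hxU π.toRingHom hπ hg γ h₁ h₂
  exact ⟨{ g' with commutes' := fun r => RingHom.congr_fun hg₂ r }, AlgHom.ext fun s =>
    RingHom.congr_fun hg₁ s⟩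

theorem mem_smoothLocus_of_small [IsLocallyNoetherian Y] {V : Y.Opens} {U : X.Opens}
    (hV : IsAffineOpen V) (hU : IsAffineOpen U) (e : U ≤ f ⁻¹ᵁ V) (hxU : x ∈ U)
    (H : ∀ (B' B : Type u) [CommRing B'] [CommRing B] [IsLocalRing B'] [IsLocalRing B]
      [IsArtinianRing B'] [IsArtinianRing B] (π : B' →+* B), Function.Surjective π →
      (∃ t : B', RingHom.ker π = Ideal.span {t} ∧ ∀ a ∈ maximalIdeal B', a * t = 0) →
      ∀ (g : Γ(X, U) →+* B) (ψ : Γ(Y, V) →+* B'), g.comp (f.appLE V U e).hom = π.comp ψ →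
        (maximalIdeal B).comap g = (hU.primeIdealOf ⟨x, hxU⟩).asIdeal →
        ((hU.primeIdealOf ⟨x, hxU⟩).asIdeal.IsMaximal → ψ.FiniteType) →
        (∀ b : B, ∃ (s v : Γ(X, U)), v ∉ (hU.primeIdealOf ⟨x, hxU⟩).asIdeal ∧ b * g v = g s) →
        ∃ γ : Spec (CommRingCat.of B') ⟶ X,
          Spec.map (CommRingCat.ofHom π) ≫ γ = Spec.map (CommRingCat.ofHom g) ≫ hU.fromSpec ∧
          γ ≫ f = Spec.map (CommRingCat.ofHom ψ) ≫ hV.fromSpec) :
    x ∈ f.smoothLocus := by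
  haveI : IsNoetherianRing Γ(Y, V) := IsLocallyNoetherian.component_noetherian ⟨V, hV⟩
  letI := (f.appLE V U e).hom.toAlgebra
  haveI : Algebra.FiniteType Γ(Y, V) Γ(X, U) :=
    LocallyOfFiniteType.finiteType_appLE (f := f) hV hU e
  refine (formallySmooth_stalkMap_iff V hV U hU e hxU).2 ?_
  refine isSmoothAt_of_liftsRes (hU.primeIdealOf ⟨x, hxU⟩).asIdeal ?_
  intro B' B _ _ _ _ _ _ _ _ π hπ ht hft g hg hres
  have hc : g.toRingHom.comp (f.appLE V U e).hom = π.toRingHom.comp (algebraMap Γ(Y, V) B') :=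
    g.comp_algebraMap.trans π.comp_algebraMap.symm
  obtain ⟨γ, h₁, h₂⟩ := H B' B π.toRingHom hπ ht g.toRingHom (algebraMap Γ(Y, V) B') hc hg
    (fun hm => RingHom.finiteType_algebraMap.2 (hft hm)) hres
  obtain ⟨g', hg₁, hg₂⟩ := ring_of_mor f hU hV e hxU π.toRingHom hπ hg γ h₁ h₂
  exact ⟨{ g' with commutes' := fun r => RingHom.congr_fun hg₂ r }, AlgHom.ext fun s =>
    RingHom.congr_fun hg₁ s⟩

end Main

end Groth.L20.SmoothAt
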