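import Groth.Agent.L20.SmoothAt.Global

/-!
# Smoothness at a point and lifting of homomorphisms of local rings
-/

set_option autoImplicit false
set_option backward.isDefEq.respectTransparency.types false
set_option linter.style.haveILetI false
set_option linter.unusedSectionVars false

universe u

open CategoryTheory CategoryTheory.Limits AlgebraicGeometry IsLocalRing

noncomputable section

namespace Groth.L20.SmoothAt

variable {X Y : Scheme.{u}} (f : X ⟶ Y) {U : X.Opens} {V : Y.Opens} (hU : IsAffineOpen U)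
  (hV : IsAffineOpen V) (e : U ≤ f ⁻¹ᵁ V) {x : X} (hx : x ∈ U)

/-- The ring map to the stalk. -/
abbrev gm {X : Scheme.{u}} {U : X.Opens} {x : X} (hx : x ∈ U) : Γ(X, U) →+* X.presheaf.stalk x :=
  (X.presheaf.germ U x hx).hom

theorem stalkMap_gm :
    (f.stalkMap x).hom.comp (gm (e hx)) = (gm hx).comp (f.appLE V U e).hom := by
  have h := Scheme.Hom.germ_stalkMap f V x (e hx)
  rw [← X.presheaf.germ_res (homOfLE e) x hx, ← Category.assoc] at h
  exact congrArg CommRingCat.Hom.hom h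

include hU in
theorem isUnit_gm_iff (s : Γ(X, U)) :
    IsUnit (gm hx s) ↔ s ∉ (hU.primeIdealOf ⟨x, hx⟩).asIdeal := by
  letI : Algebra Γ(X, U) (X.presheaf.stalk x) :=
    TopCat.Presheaf.algebra_section_stalk X.presheaf ⟨x, hx⟩
  haveI := hU.isLocalization_stalk ⟨x, hx⟩
  exact IsLocalization.AtPrime.isUnit_to_map_iff (X.presheaf.stalk x)
    (hU.primeIdealOf ⟨x, hx⟩).asIdeal s

include hU in
theorem exists_of_isUnit {C : Type u} [CommRing C] (g : Γ(X, U) →+* C)
    (hg : ∀ s, s ∉ (hU.primeIdealOf ⟨x, hx⟩).asIdeal → IsUnit (g s)) :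
    ∃ g₀ : X.presheaf.stalk x →+* C, g₀.comp (gm hx) = g := by
  letI : Algebra Γ(X, U) (X.presheaf.stalk x) :=
    TopCat.Presheaf.algebra_section_stalk X.presheaf ⟨x, hx⟩
  haveI := hU.isLocalization_stalk ⟨x, hx⟩
  exact ⟨IsLocalization.lift (M := (hU.primeIdealOf ⟨x, hx⟩).asIdeal.primeCompl)
    (g := g) (fun s => hg s s.2), IsLocalization.lift_comp _⟩

include hU in
theorem hom_ext_gm {C : Type u} [CommRing C] {g₀ g₁ : X.presheaf.stalk x →+* C}
    (h : g₀.comp (gm hx) = g₁.comp (gm hx)) : g₀ = g₁ := by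
  letI : Algebra Γ(X, U) (X.presheaf.stalk x) :=
    TopCat.Presheaf.algebra_section_stalk X.presheaf ⟨x, hx⟩
  haveI := hU.isLocalization_stalk ⟨x, hx⟩
  exact IsLocalization.ringHom_ext (hU.primeIdealOf ⟨x, hx⟩).asIdeal.primeCompl h

include hU hx in
theorem exists_eq_div (b : X.presheaf.stalk x) :
    ∃ (s v : Γ(X, U)), v ∉ (hU.primeIdealOf ⟨x, hx⟩).asIdeal ∧ b * gm hx v = gm hx s := by
  letI : Algebra Γ(X, U) (X.presheaf.stalk x) :=
    TopCat.Presheaf.algebra_section_stalk X.presheaf ⟨x, hx⟩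
  haveI := hU.isLocalization_stalk ⟨x, hx⟩
  obtain ⟨⟨s, v⟩, h⟩ := IsLocalization.surj (hU.primeIdealOf ⟨x, hx⟩).asIdeal.primeCompl b
  exact ⟨s, v, v.2, h⟩

include hU hV e hx in
theorem lift_stalk_of_mem [LocallyOfFinitePresentation f] (hxs : x ∈ f.smoothLocus)
    {A : Type u} [CommRing A] [IsLocalRing A] (h : Y.presheaf.stalk (f x) →+* A)
    (I : Ideal A) (hI : I ≠ ⊤) (hnil : IsNilpotent I) (g₀ : X.presheaf.stalk x →+* A ⧸ I)
    (hc : g₀.comp (f.stalkMap x).hom = (Ideal.Quotient.mk I).comp h)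
    (hm : ∀ b ∈ maximalIdeal (X.presheaf.stalk x),
      g₀ b ∈ (maximalIdeal A).map (Ideal.Quotient.mk I)) :
    ∃ g : X.presheaf.stalk x →+* A,
      g.comp (f.stalkMap x).hom = h ∧ (Ideal.Quotient.mk I).comp g = g₀ := by
  haveI : Nontrivial (A ⧸ I) := Ideal.Quotient.nontrivial_iff.mpr hI
  haveI : IsLocalRing (A ⧸ I) := .of_surjective' (Ideal.Quotient.mk I) Ideal.Quotient.mk_surjective
  haveI : IsLocalHom g₀ := ⟨fun b hb => by
    by_contra hn
    have h1 := hm b ((mem_maximalIdeal _).mpr hn)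
    rw [IsLocalRing.map_maximalIdeal_of_surjective _ Ideal.Quotient.mk_surjective] at h1
    exact (mem_maximalIdeal _).1 h1 hb⟩
  let g := g₀.comp (gm hx)
  let ψ := h.comp (gm (e hx))
  have hc' : g.comp (f.appLE V U e).hom = (Ideal.Quotient.mk I).comp ψ := by
    show (g₀.comp (gm hx)).comp _ = _
    rw [RingHom.comp_assoc, ← stalkMap_gm f e hx, ← RingHom.comp_assoc, hc, RingHom.comp_assoc]
  have hg : (maximalIdeal (A ⧸ I)).comap g = (hU.primeIdealOf ⟨x, hx⟩).asIdeal := by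
    ext s
    rw [Ideal.mem_comap, mem_maximalIdeal, mem_nonunits_iff]
    show ¬ IsUnit (g₀ (gm hx s)) ↔ _
    rw [isUnit_map_iff, isUnit_gm_iff hU hx, not_not]
  letI := (f.appLE V U e).hom.toAlgebra
  haveI : Algebra.IsSmoothAt Γ(Y, V) (hU.primeIdealOf ⟨x, hx⟩).asIdeal :=
    (formallySmooth_stalkMap_iff V hV U hU e hx).1 hxs
  letI := ψ.toAlgebra
  letI : Algebra Γ(Y, V) (A ⧸ I) := ((Ideal.Quotient.mk I).comp ψ).toAlgebra
  let π' : A →ₐ[Γ(Y, V)] A ⧸ I := { Ideal.Quotient.mk I with commutes' := fun _ => rfl }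
  let g' : Γ(X, U) →ₐ[Γ(Y, V)] A ⧸ I := { g with commutes' := fun r => RingHom.congr_fun hc' r }
  obtain ⟨k, hk⟩ := exists_lift_of_isSmoothAt _ π' Ideal.Quotient.mk_surjective
    (by rw [show RingHom.ker (π' : A →+* A ⧸ I) = I from Ideal.mk_ker]; exact hnil) g' hg
  have hu : ∀ s, s ∉ (hU.primeIdealOf ⟨x, hx⟩).asIdeal → IsUnit (k.toRingHom s) := fun s hs => by
    haveI : IsLocalHom (Ideal.Quotient.mk I) :=
      IsLocalHom.of_surjective _ Ideal.Quotient.mk_surjective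
    refine isUnit_of_map_unit (Ideal.Quotient.mk I) _ ?_
    rw [show Ideal.Quotient.mk I (k.toRingHom s) = g s from AlgHom.congr_fun hk s]
    exact ((isUnit_gm_iff hU hx s).2 hs).map g₀
  obtain ⟨g₁, hg₁⟩ := exists_of_isUnit hU hx k.toRingHom hu
  refine ⟨g₁, hom_ext_gm hV (e hx) ?_, hom_ext_gm hU hx ?_⟩
  · rw [RingHom.comp_assoc, stalkMap_gm f e hx, ← RingHom.comp_assoc, hg₁]
    exact k.comp_algebraMap
  · rw [RingHom.comp_assoc, hg₁]
    exact congrArg AlgHom.toRingHom hk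

include hU hV e hx in
theorem mem_of_lift_stalk [LocallyOfFinitePresentation f] [IsLocallyNoetherian Y]
    (H : ∀ (A' : Type u) [CommRing A'] [IsLocalRing A'] [IsArtinianRing A']
        (h : Y.presheaf.stalk (f x) →+* A') [IsLocalHom h]
        (I : Ideal A') (_ : I ≠ ⊤) (_ : I * maximalIdeal A' = ⊥)
        (g₀ : X.presheaf.stalk x →+* A' ⧸ I),
        g₀.comp (f.stalkMap x).hom = (Ideal.Quotient.mk I).comp h →
        (∀ b ∈ maximalIdeal (X.presheaf.stalk x),
          g₀ b ∈ (maximalIdeal A').map (Ideal.Quotient.mk I)) →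
        (∀ a' : A', ∃ b : X.presheaf.stalk x,
          g₀ b - Ideal.Quotient.mk I a' ∈ (maximalIdeal A').map (Ideal.Quotient.mk I)) →
        ∃ g : X.presheaf.stalk x →+* A',
          g.comp (f.stalkMap x).hom = h ∧ (Ideal.Quotient.mk I).comp g = g₀) :
    x ∈ f.smoothLocus := by
  refine mem_smoothLocus_of_small f hV hU e hx ?_
  intro B' B _ _ _ _ _ _ π hπ ht g ψ hc hg _ hres
  obtain ⟨t, ht, htm⟩ := ht
  haveI : IsLocalHom π := IsLocalHom.of_surjective π hπ
  let ε := RingHom.quotientKerEquivOfSurjective hπ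
  have hI : RingHom.ker π ≠ ⊤ := RingHom.ker_ne_top π
  have hIm : RingHom.ker π * maximalIdeal B' = ⊥ := by
    rw [ht, eq_bot_iff, Ideal.mul_le]
    intro r hr a ha
    obtain ⟨c, rfl⟩ := Ideal.mem_span_singleton'.1 hr
    rw [Ideal.mem_bot, mul_assoc, mul_comm t a, htm a ha, mul_zero]
  have hgu : ∀ s, s ∉ (hU.primeIdealOf ⟨x, hx⟩).asIdeal → IsUnit (g s) := fun s hs => by
    rw [← hg, Ideal.mem_comap, mem_maximalIdeal, mem_nonunits_iff, not_not] at hs
    exact hs
  obtain ⟨g₀, hg₀⟩ := exists_of_isUnit hU hx g hgu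
  have hpq : ∀ r, r ∈ (hV.primeIdealOf ⟨f x, e hx⟩).asIdeal ↔
      (f.appLE V U e).hom r ∈ (hU.primeIdealOf ⟨x, hx⟩).asIdeal := fun r => by
    rw [← IsAffineOpen.comap_primeIdealOf_appLE V hV U hU e hx]
    rfl
  have hψu : ∀ r, r ∉ (hV.primeIdealOf ⟨f x, e hx⟩).asIdeal ↔ IsUnit (ψ r) := fun r => by
    refine ⟨fun hr => isUnit_of_map_unit π _ ?_, fun hu hr => ?_⟩
    · rw [← RingHom.comp_apply π ψ, ← hc]
      exact hgu _ (fun h => hr ((hpq r).2 h))
    · have h1 : (f.appLE V U e).hom r ∈ (maximalIdeal B).comap g := hg ▸ (hpq r).1 hr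
      rw [Ideal.mem_comap, mem_maximalIdeal, mem_nonunits_iff, ← RingHom.comp_apply, hc] at h1
      exact h1 (hu.map π)
  obtain ⟨h, hh⟩ := exists_of_isUnit hV (e hx) ψ fun r hr => (hψu r).1 hr
  haveI : IsLocalHom h := ⟨fun b hb => by
    obtain ⟨s, v, hv, hsv⟩ := exists_eq_div hV (e hx) b
    have h1 : IsUnit (ψ s) := by
      rw [← hh, RingHom.comp_apply, ← hsv, map_mul]
      exact hb.mul (((isUnit_gm_iff hV (e hx) v).2 hv).map h)
    have h2 := (isUnit_gm_iff hV (e hx) s).2 ((hψu s).2 h1)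
    rw [← hsv] at h2
    exact isUnit_of_mul_isUnit_left h2⟩
  have hπε : ∀ a, ε (Ideal.Quotient.mk (RingHom.ker π) a) = π a := fun a => rfl
  have hcond : ((ε.symm.toRingHom.comp g₀).comp (f.stalkMap x).hom) =
      (Ideal.Quotient.mk (RingHom.ker π)).comp h := by
    refine hom_ext_gm hV (e hx) ?_
    refine RingHom.ext fun r => ε.injective ?_
    refine (ε.apply_symm_apply _).trans ?_
    refine ((congrArg g₀ (RingHom.congr_fun (stalkMap_gm f e hx) r)).trans
      ((RingHom.congr_fun hg₀ _).trans (RingHom.congr_fun hc r))).trans ?_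
    exact ((hπε _).trans (congrArg π (RingHom.congr_fun hh r))).symm
  have hmB : ∀ y, y ∈ maximalIdeal B → ε.symm y ∈
      (maximalIdeal B').map (Ideal.Quotient.mk (RingHom.ker π)) := fun y hy => by
    obtain ⟨a, rfl⟩ := hπ y
    rw [ε.symm_apply_eq.2 (hπε a).symm]
    exact Ideal.mem_map_of_mem _ ((mem_maximalIdeal _).2 fun hu => (mem_maximalIdeal _).1 hy (hu.map π))
  obtain ⟨k, hk₁, hk₂⟩ := H B' h (RingHom.ker π) hI hIm (ε.symm.toRingHom.comp g₀) hcond
    (fun b hb => by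
      refine hmB _ ?_
      obtain ⟨s, v, hv, hsv⟩ := exists_eq_div hU hx b
      refine (mem_maximalIdeal _).2 fun hu => ?_
      have h1 : IsUnit (g s) := by
        rw [← hg₀, RingHom.comp_apply, ← hsv, map_mul]
        exact hu.mul (((isUnit_gm_iff hU hx v).2 hv).map g₀)
      have h2 : s ∉ (hU.primeIdealOf ⟨x, hx⟩).asIdeal := by
        rw [← hg, Ideal.mem_comap, mem_maximalIdeal, mem_nonunits_iff, not_not]
        exact h1
      have h3 := (isUnit_gm_iff hU hx s).2 h2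
      rw [← hsv] at h3
      exact (mem_maximalIdeal _).1 hb (isUnit_of_mul_isUnit_left h3))
    (fun a' => by
      obtain ⟨s, v, hv, hsv⟩ := hres (π a')
      obtain ⟨w, hw⟩ := (isUnit_gm_iff hU hx v).2 hv
      refine ⟨gm hx s * ↑w⁻¹, ?_⟩
      have h1 : g₀ (gm hx s * ↑w⁻¹) = π a' := by
        refine (hgu v hv).mul_left_injective ?_
        show g₀ (gm hx s * ↑w⁻¹) * g v = π a' * g v
        rw [hsv, ← hg₀, RingHom.comp_apply, RingHom.comp_apply, ← map_mul, ← hw, mul_assoc,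
          Units.inv_mul, mul_one]
      show ε.symm (g₀ (gm hx s * ↑w⁻¹)) - _ ∈ _
      rw [h1, ε.symm_apply_eq.2 (hπε a').symm, sub_self]
      exact zero_mem _)
  have e1 : π.comp (k.comp (gm hx)) = g := by
    rw [← hg₀]
    refine RingHom.ext fun s => ?_
    have := RingHom.congr_fun hk₂ (gm hx s)
    exact (hπε _).symm.trans ((congrArg ε this).trans (ε.apply_symm_apply _))
  refine ⟨Spec.map (CommRingCat.ofHom (k.comp (gm hx))) ≫ hU.fromSpec, ?_, ?_⟩
  · rw [← Spec.map_comp_assoc, ← CommRingCat.ofHom_comp, e1]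
  · rw [Category.assoc, ← IsAffineOpen.SpecMap_appLE_fromSpec f hV hU e, ← Spec.map_comp_assoc]
    congr 2
    refine CommRingCat.hom_ext ?_
    show (k.comp (gm hx)).comp (f.appLE V U e).hom = ψ
    rw [RingHom.comp_assoc, ← stalkMap_gm f e hx, ← RingHom.comp_assoc, hk₁, hh]

end Groth.L20.SmoothAt
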