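import Groth.Agent.L02.CAlg.SmallLift
import Mathlib.RingTheory.Smooth.Local
import Mathlib.RingTheory.Smooth.Locus
import Mathlib.RingTheory.Extension.Cotangent.Basic
import Mathlib.RingTheory.Etale.Kaehler
import Mathlib.RingTheory.HopkinsLevitzki
import Mathlib.RingTheory.Filtration
import Mathlib.RingTheory.Polynomial.Basic
import Mathlib.RingTheory.LocalRing.RingHom.Basic
import Mathlib.LinearAlgebra.TensorProduct.Quotient
import Mathlib.Tactic

/-!
Smoothness at a prime from lifting along square-zero extensions of local rings and along residually trivial small extensions.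
-/

set_option autoImplicit false

universe u

open IsLocalRing TensorProduct

open L02.CAlg.SmallLift

namespace Groth.L20.SmoothAt

theorem exists_lift_of_isSmoothAt {R S : Type u} [CommRing R] [CommRing S] [Algebra R S] (q : Ideal S)
    [q.IsPrime] [Algebra.IsSmoothAt R q] {B' B : Type u} [CommRing B'] [CommRing B] [IsLocalRing B]
    [Algebra R B'] [Algebra R B] (π : B' →ₐ[R] B) (hπ : Function.Surjective π)
    (hnil : IsNilpotent (RingHom.ker (π : B' →+* B))) (g : S →ₐ[R] B)
    (hg : (maximalIdeal B).comap g = q) : ∃ g' : S →ₐ[R] B', π.comp g' = g := by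
  have hu : ∀ s : q.primeCompl, IsUnit (g s) := fun s => by
    by_contra h
    exact s.2 ((SetLike.ext_iff.mp hg (s : S)).mp (Ideal.mem_comap.mpr ((mem_maximalIdeal _).mpr h)))
  let gq : Localization.AtPrime q →ₐ[R] B := IsLocalization.liftAlgHom (f := g) hu
  refine ⟨(Algebra.FormallySmooth.liftOfSurjective gq π hπ hnil).comp
    (IsScalarTower.toAlgHom R S (Localization.AtPrime q)), AlgHom.ext fun s => ?_⟩
  show π (Algebra.FormallySmooth.liftOfSurjective gq π hπ hnil (algebraMap S _ s)) = g s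
  exact (Algebra.FormallySmooth.liftOfSurjective_apply gq π hπ hnil _).trans
    (IsLocalization.lift_eq _ s)

/-- Lifts along square-zero extensions of local rings at a prime. -/
def LiftsSq (R S : Type u) [CommRing R] [CommRing S] [Algebra R S] (q : Ideal S) : Prop :=
  ∀ (B' B : Type u) [CommRing B'] [CommRing B] [IsLocalRing B'] [IsLocalRing B] [Algebra R B']
    [Algebra R B] (π : B' →ₐ[R] B), Function.Surjective π → RingHom.ker π.toRingHom ^ 2 = ⊥ →
    ∀ g : S →ₐ[R] B, (maximalIdeal B).comap g = q → ∃ g' : S →ₐ[R] B', π.comp g' = g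

/-- Square-zero lifting over local rings gives smoothness at a prime; no finiteness is needed. -/
theorem isSmoothAt_of_liftsSq {R S : Type u} [CommRing R] [CommRing S] [Algebra R S] (q : Ideal S)
    [q.IsPrime] (H : LiftsSq R S q) : Algebra.IsSmoothAt R q := by
  let f₀ : MvPolynomial S R →ₐ[R] S := MvPolynomial.aeval id
  have hf₀ : Function.Surjective f₀ := fun s => ⟨MvPolynomial.X s, MvPolynomial.aeval_X _ s⟩
  let Q := q.comap f₀.toRingHom
  haveI : Q.IsPrime := Ideal.comap_isPrime _ q
  let P := Localization.AtPrime Q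
  let A := Localization.AtPrime q
  have hu : ∀ s : Q.primeCompl, IsUnit (((IsScalarTower.toAlgHom R S A).comp f₀) s) := fun s =>
    IsLocalization.map_units A (⟨f₀ s, s.2⟩ : q.primeCompl)
  let φ : P →ₐ[R] A := IsLocalization.liftAlgHom hu
  have hφ : Function.Surjective φ := by
    intro x
    obtain ⟨x, ⟨s, hs⟩, rfl⟩ := IsLocalization.exists_mk'_eq q.primeCompl x
    obtain ⟨x, rfl⟩ := hf₀ x
    obtain ⟨s, rfl⟩ := hf₀ s
    refine ⟨IsLocalization.mk' P x (⟨s, hs⟩ : Q.primeCompl), ?_⟩
    simp [φ, A, IsLocalization.lift_mk', Units.mul_inv_eq_iff_eq_mul, IsUnit.liftRight]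
  haveI : Algebra.FormallyEtale (MvPolynomial S R) P := .of_isLocalization Q.primeCompl
  haveI : Algebra.FormallySmooth R P := .comp _ (MvPolynomial S R) _
  set K := RingHom.ker φ.toRingHom
  have hK2 : K ^ 2 ≠ ⊤ := fun h => RingHom.ker_ne_top φ.toRingHom
    (top_le_iff.1 (h ▸ Ideal.pow_le_self two_ne_zero))
  haveI : Nontrivial (P ⧸ K ^ 2) := Ideal.Quotient.nontrivial_iff.mpr hK2
  haveI : IsLocalRing (P ⧸ K ^ 2) := .of_surjective' (Ideal.Quotient.mk _) Ideal.Quotient.mk_surjective
  have hπ : Function.Surjective φ.kerSquareLift := fun x => by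
    obtain ⟨y, rfl⟩ := hφ x
    exact ⟨Ideal.Quotient.mk _ y, rfl⟩
  have hsq : RingHom.ker φ.kerSquareLift.toRingHom ^ 2 = ⊥ := by
    have e : RingHom.ker φ.kerSquareLift.toRingHom = K.map (Ideal.Quotient.mk (K ^ 2)) := by
      refine le_antisymm (fun y hy => ?_) (Ideal.map_le_iff_le_comap.2 fun y hy => hy)
      obtain ⟨y, rfl⟩ := Ideal.Quotient.mk_surjective y
      exact Ideal.mem_map_of_mem _ hy
    rw [e, ← Ideal.map_pow, Ideal.map_quotient_self]
  have hg : (maximalIdeal A).comap (IsScalarTower.toAlgHom R S A) = q :=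
    Localization.AtPrime.comap_maximalIdeal
  obtain ⟨g', hg'⟩ := H (P ⧸ K ^ 2) A φ.kerSquareLift hπ hsq (IsScalarTower.toAlgHom R S A) hg
  have hu' : ∀ s : q.primeCompl, IsUnit (g' s) := fun s => by
    haveI : IsLocalHom φ.kerSquareLift.toRingHom := IsLocalHom.of_surjective _ hπ
    refine isUnit_of_map_unit φ.kerSquareLift.toRingHom _ ?_
    rw [show φ.kerSquareLift.toRingHom (g' s) = algebraMap S A s from AlgHom.congr_fun hg' (s : S)]
    exact IsLocalization.map_units A s
  let gq : A →ₐ[R] P ⧸ K ^ 2 := IsLocalization.liftAlgHom (f := g') hu'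
  refine Algebra.FormallySmooth.of_split φ gq (IsLocalization.algHom_ext q.primeCompl ?_)
  refine AlgHom.ext fun s => ?_
  show φ.kerSquareLift (gq (algebraMap S A s)) = algebraMap S A s
  rw [show gq (algebraMap S A s) = g' s from IsLocalization.lift_eq _ s]
  exact AlgHom.congr_fun hg' s

/-- Lifts along small extensions of Artinian local rings, residually trivial at a prime and of finite
type over the base when the prime is maximal. -/
def LiftsRes (R S : Type u) [CommRing R] [CommRing S] [Algebra R S] (q : Ideal S) : Prop :=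
  ∀ (B' B : Type u) [CommRing B'] [CommRing B] [IsLocalRing B'] [IsLocalRing B]
    [IsArtinianRing B'] [IsArtinianRing B] [Algebra R B'] [Algebra R B] (π : B' →ₐ[R] B),
    Function.Surjective π →
    (∃ t : B', RingHom.ker π.toRingHom = Ideal.span {t} ∧ ∀ a ∈ maximalIdeal B', a * t = 0) →
    (q.IsMaximal → Algebra.FiniteType R B') →
    ∀ g : S →ₐ[R] B, (maximalIdeal B).comap g = q →
      (∀ b : B, ∃ (x u : S), u ∉ q ∧ b * g u = g x) → ∃ g' : S →ₐ[R] B', π.comp g' = g

/-- Key step: an element of the kernel of a presentation with differential vanishing at the closed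
point lies in `𝔪 ⬝ ker` as soon as the small extension test holds. -/
theorem mem_maximalIdeal_mul_ker {R S P : Type u} [CommRing R] [CommRing S] [Algebra R S]
    (q : Ideal S) [q.IsPrime] (H : LiftsRes R S q) [CommRing P] [IsLocalRing P] [IsNoetherianRing P]
    [Algebra R P]
    (hP : q.IsMaximal → ∀ (k : ℕ) (J : Ideal P), maximalIdeal P ^ (k + 1) ≤ J →
      Algebra.FiniteType R (P ⧸ J))
    (φ : P →ₐ[R] Localization.AtPrime q) (hφ : Function.Surjective φ) {f : P}
    (hf : f ∈ RingHom.ker φ.toRingHom)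
    (hdf : KaehlerDifferential.D R P f ∈ (maximalIdeal P • ⊤ : Submodule P (KaehlerDifferential R P))) :
    f ∈ maximalIdeal P * RingHom.ker φ.toRingHom := by
  classical
  by_contra hne
  have hKm : RingHom.ker φ.toRingHom ≤ maximalIdeal P := le_maximalIdeal (RingHom.ker_ne_top _)
  obtain ⟨k, hk⟩ := Ideal.exists_pow_inf_eq_pow_smul (maximalIdeal P) (RingHom.ker φ.toRingHom)
  set K := RingHom.ker φ.toRingHom
  set J1 := K ⊔ maximalIdeal P ^ (k + 1)
  set J0 := maximalIdeal P * K ⊔ maximalIdeal P ^ (k + 1)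
  have hfJ0 : f ∉ J0 := by
    intro h
    obtain ⟨a, ha, b, hb, hab⟩ := Submodule.mem_sup.mp h
    have hbK : b ∈ K := by
      rw [← add_sub_cancel_left a b, hab]
      exact sub_mem hf (Ideal.mul_le_right ha)
    have h1 : b ∈ maximalIdeal P * K := by
      have h2 : b ∈ (maximalIdeal P ^ (k + 1) • ⊤ ⊓ K : Submodule P P) :=
        ⟨by rwa [smul_eq_mul, Ideal.mul_top], hbK⟩
      rw [hk (k + 1) (Nat.le_succ k), Nat.add_sub_cancel_left, pow_one] at h2
      exact Submodule.smul_mono le_rfl inf_le_right h2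
    exact hne (hab ▸ add_mem ha h1)
  obtain ⟨J, ⟨hJ0, hJ1, hfJ⟩, hmax⟩ := set_has_maximal_iff_noetherian.mpr ‹IsNoetherianRing P›
    {J : Ideal P | J0 ≤ J ∧ J ≤ J1 ∧ f ∉ J}
    ⟨J0, le_rfl, sup_le_sup_right Ideal.mul_le_right _, hfJ0⟩
  have hf1 : f ∈ J1 := Ideal.mem_sup_left hf
  have hJ1eq : J1 = J ⊔ Ideal.span {f} := by
    refine le_antisymm (fun g hg => ?_) (sup_le hJ1 ((Ideal.span_singleton_le_iff_mem _).mpr hf1))
    by_cases hgJ : g ∈ J
    · exact Ideal.mem_sup_left hgJ
    have : f ∈ J ⊔ Ideal.span {g} := by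
      by_contra hfg
      exact hmax (J ⊔ Ideal.span {g}) ⟨hJ0.trans le_sup_left,
        sup_le hJ1 ((Ideal.span_singleton_le_iff_mem _).mpr hg), hfg⟩
        (lt_of_le_of_ne le_sup_left fun e => hgJ
          (e ▸ Ideal.mem_sup_right (Ideal.mem_span_singleton_self g)))
    obtain ⟨j, hj, w, hw, hjw⟩ := Submodule.mem_sup.mp this
    obtain ⟨c, rfl⟩ := Ideal.mem_span_singleton'.mp hw
    by_cases hc : IsUnit c
    · obtain ⟨u, rfl⟩ := hc
      have : g = (↑u⁻¹ : P) * f - ↑u⁻¹ * j := by
        rw [← hjw, mul_add, add_sub_cancel_left, ← mul_assoc, Units.inv_mul, one_mul]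
      rw [this]
      exact sub_mem (Ideal.mem_sup_right (Ideal.mul_mem_left _ _ (Ideal.mem_span_singleton_self f)))
        (Ideal.mem_sup_left (Ideal.mul_mem_left _ _ hj))
    · refine absurd (hjw ▸ add_mem hj ?_) hfJ
      refine hJ0 ?_
      obtain ⟨a, ha, b, hb, rfl⟩ := Submodule.mem_sup.mp hg
      rw [mul_add]
      exact add_mem (Ideal.mem_sup_left (Ideal.mul_mem_mul ((mem_maximalIdeal _).mpr hc) ha))
        (Ideal.mem_sup_right (Ideal.mul_mem_left _ _ hb))
  have hJ1m : J1 ≤ maximalIdeal P := sup_le hKm (Ideal.pow_le_self (Nat.succ_ne_zero k))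
  have hJm : J ≤ maximalIdeal P := hJ1.trans hJ1m
  haveI : Nontrivial (P ⧸ J) := Ideal.Quotient.nontrivial_iff.mpr fun h =>
    (maximalIdeal.isMaximal P).ne_top (top_le_iff.mp (h ▸ hJm))
  haveI : Nontrivial (P ⧸ J1) := Ideal.Quotient.nontrivial_iff.mpr fun h =>
    (maximalIdeal.isMaximal P).ne_top (top_le_iff.mp (h ▸ hJ1m))
  haveI : IsLocalRing (P ⧸ J) := .of_surjective' (Ideal.Quotient.mk J) Ideal.Quotient.mk_surjective
  haveI : IsLocalRing (P ⧸ J1) := .of_surjective' (Ideal.Quotient.mk J1) Ideal.Quotient.mk_surjective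
  have hart : ∀ (I : Ideal P), maximalIdeal P ^ (k + 1) ≤ I → ∀ [IsLocalRing (P ⧸ I)],
      IsArtinianRing (P ⧸ I) := fun I hI _ => by
    rw [isArtinianRing_iff_isNilpotent_maximalIdeal]
    refine ⟨k + 1, ?_⟩
    rw [← IsLocalRing.map_maximalIdeal_of_surjective (Ideal.Quotient.mk I)
      Ideal.Quotient.mk_surjective, ← Ideal.map_pow]
    exact Ideal.map_mk_eq_bot_of_le hI
  haveI : IsArtinianRing (P ⧸ J) := hart J (le_sup_right.trans hJ0)
  haveI : IsArtinianRing (P ⧸ J1) := hart J1 le_sup_right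
  let π : P ⧸ J →ₐ[R] P ⧸ J1 := Ideal.Quotient.factorₐ R hJ1
  have hπ : Function.Surjective π := Ideal.Quotient.factor_surjective hJ1
  have hkerπ : RingHom.ker π.toRingHom = Ideal.span {Ideal.Quotient.mk J f} := by
    show RingHom.ker (Ideal.Quotient.factor hJ1) = _
    rw [Ideal.Quotient.factor_ker, hJ1eq, Ideal.map_sup, Ideal.map_quotient_self, bot_sup_eq,
      Ideal.map_span, Set.image_singleton]
  have hsmall : ∀ a ∈ maximalIdeal (P ⧸ J), a * Ideal.Quotient.mk J f = 0 := by
    intro a ha
    rw [← IsLocalRing.map_maximalIdeal_of_surjective (Ideal.Quotient.mk J) Ideal.Quotient.mk_surjective] at ha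
    obtain ⟨a, ha', rfl⟩ := (Ideal.mem_map_iff_of_surjective _ Ideal.Quotient.mk_surjective).mp ha
    rw [← map_mul, Ideal.Quotient.eq_zero_iff_mem]
    exact hJ0 (Ideal.mem_sup_left (Ideal.mul_mem_mul ha' hf))
  -- the map S → B
  let eS := Ideal.quotientKerAlgEquivOfSurjective hφ
  let gS : Localization.AtPrime q →ₐ[R] P ⧸ J1 :=
    (Ideal.Quotient.factorₐ R (show RingHom.ker φ.toRingHom ≤ J1 from le_sup_left)).comp eS.symm.toAlgHom
  have hgS : ∀ p, gS (φ p) = Ideal.Quotient.mk J1 p := fun p => by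
    show Ideal.Quotient.factor (le_sup_left : K ≤ J1) (eS.symm (φ p)) = _
    rw [show eS.symm (φ p) = Ideal.Quotient.mk _ p from
      eS.injective (by rw [AlgEquiv.apply_symm_apply]; rfl)]
    rfl
  have hgSs : Function.Surjective gS := fun b => by
    obtain ⟨p, rfl⟩ := Ideal.Quotient.mk_surjective b
    exact ⟨φ p, hgS p⟩
  let g : S →ₐ[R] P ⧸ J1 := gS.comp (IsScalarTower.toAlgHom R S _)
  have hg : (maximalIdeal (P ⧸ J1)).comap g = q := by
    haveI : IsLocalHom gS.toRingHom := IsLocalHom.of_surjective gS.toRingHom hgSs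
    show ((maximalIdeal (P ⧸ J1)).comap gS.toRingHom).comap (algebraMap S (Localization.AtPrime q)) = q
    rw [((local_hom_TFAE gS.toRingHom).out 0 4 rfl rfl).mp inferInstance]
    exact Localization.AtPrime.comap_maximalIdeal
  obtain ⟨g', hg'⟩ := H (P ⧸ J) (P ⧸ J1) π hπ ⟨_, hkerπ, hsmall⟩
    (fun hq => hP hq k J (le_sup_right.trans hJ0)) g hg fun b => by
      obtain ⟨z, rfl⟩ := hgSs b
      obtain ⟨⟨x, u⟩, hxu⟩ := IsLocalization.surj q.primeCompl z
      exact ⟨x, u, u.2, (map_mul gS _ _).symm.trans (congrArg gS hxu)⟩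
  have hu : ∀ s : q.primeCompl, IsUnit (g' s) := fun s => by
    haveI : IsLocalHom π.toRingHom := IsLocalHom.of_surjective π.toRingHom hπ
    refine isUnit_of_map_unit π.toRingHom _ ?_
    rw [show π.toRingHom (g' s) = gS (algebraMap S _ s) from AlgHom.congr_fun hg' (s : S)]
    exact (IsLocalization.map_units (Localization.AtPrime q) s).map gS
  let gq : Localization.AtPrime q →ₐ[R] P ⧸ J := IsLocalization.liftAlgHom (f := g') hu
  have hgq : π.comp gq = gS := IsLocalization.algHom_ext q.primeCompl (by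
    refine AlgHom.ext fun s => ?_
    show π (gq (algebraMap S _ s)) = gS (algebraMap S _ s)
    rw [show gq (algebraMap S _ s) = g' s from IsLocalization.lift_eq _ s]
    exact AlgHom.congr_fun hg' s)
  -- the derivation
  let h : P →ₐ[R] P ⧸ J := gq.comp φ
  let pi' : P →ₐ[R] P ⧸ J := Ideal.Quotient.mkₐ R J
  let δ : P →ₗ[R] P ⧸ J := pi'.toLinearMap - h.toLinearMap
  have hδker : ∀ a, δ a ∈ Ideal.span {Ideal.Quotient.mk J f} := fun a => by
    rw [← hkerπ, RingHom.mem_ker]
    show π (Ideal.Quotient.mk J a - gq (φ a)) = 0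
    rw [map_sub, show π (gq (φ a)) = gS (φ a) from AlgHom.congr_fun hgq (φ a), hgS]
    exact sub_self _
  have hδδ : ∀ a b, δ a * δ b = 0 := fun a b => by
    obtain ⟨c, hc⟩ := Ideal.mem_span_singleton'.mp (hδker b)
    obtain ⟨d, hd⟩ := Ideal.mem_span_singleton'.mp (hδker a)
    have htt : Ideal.Quotient.mk J f * Ideal.Quotient.mk J f = 0 := hsmall _ (by
      rw [← IsLocalRing.map_maximalIdeal_of_surjective (Ideal.Quotient.mk J) Ideal.Quotient.mk_surjective]
      exact Ideal.mem_map_of_mem _ (hKm hf))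
    rw [← hc, ← hd, mul_mul_mul_comm, htt, mul_zero]
  let D : Derivation R P (P ⧸ J) := Derivation.mk' δ fun a b => by
    show δ (a * b) = Ideal.Quotient.mk J a * δ b + Ideal.Quotient.mk J b * δ a
    have e1 : δ (a * b) = Ideal.Quotient.mk J a * Ideal.Quotient.mk J b - h a * h b := by
      show pi' (a * b) - h (a * b) = _
      rw [map_mul h, map_mul pi']
      rfl
    have e2 : ∀ x, h x = Ideal.Quotient.mk J x - δ x := fun x => (sub_sub_cancel _ _).symm
    rw [e1, e2 a, e2 b]
    linear_combination -(hδδ a b)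
  have hl : ∀ ω, D.liftKaehlerDifferential ω ∈ Ideal.span {Ideal.Quotient.mk J f} := by
    intro ω
    have hω : ω ∈ Submodule.span P (Set.range (KaehlerDifferential.D R P)) := by
      rw [KaehlerDifferential.span_range_derivation]; exact Submodule.mem_top
    induction hω using Submodule.span_induction with
    | mem x hx => obtain ⟨a, rfl⟩ := hx; rw [Derivation.liftKaehlerDifferential_comp_D]; exact hδker a
    | zero => rw [map_zero]; exact zero_mem _
    | add x y _ _ hx hy => rw [map_add]; exact add_mem hx hy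
    | smul c x _ hx => rw [map_smul, Algebra.smul_def]; exact Ideal.mul_mem_left _ _ hx
  have h0 : D.liftKaehlerDifferential (KaehlerDifferential.D R P f) = 0 := by
    refine Submodule.smul_induction_on hdf (fun a ha ω _ => ?_) fun x y hx hy => ?_
    · obtain ⟨c, hc⟩ := Ideal.mem_span_singleton'.mp (hl ω)
      rw [map_smul, Algebra.smul_def, ← hc, mul_left_comm, Ideal.Quotient.algebraMap_eq,
        hsmall _ (by
          rw [← IsLocalRing.map_maximalIdeal_of_surjective (Ideal.Quotient.mk J) Ideal.Quotient.mk_surjective]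
          exact Ideal.mem_map_of_mem _ ha), mul_zero]
    · rw [map_add, hx, hy, add_zero]
  rw [Derivation.liftKaehlerDifferential_comp_D] at h0
  refine hfJ (Ideal.Quotient.eq_zero_iff_mem.mp ?_)
  have h1 : Ideal.Quotient.mk J f - gq (φ f) = 0 := h0
  rwa [show φ f = 0 from hf, map_zero, sub_zero] at h1

theorem isSmoothAt_of_liftsRes {R S : Type u} [CommRing R] [IsNoetherianRing R] [CommRing S]
    [Algebra R S] [Algebra.FiniteType R S] (q : Ideal S) [q.IsPrime] (H : LiftsRes R S q) :
    Algebra.IsSmoothAt R q := by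
  obtain ⟨n, f₀, hf₀⟩ := Algebra.FiniteType.iff_quotient_mvPolynomial''.mp
    (inferInstance : Algebra.FiniteType R S)
  let Q := q.comap f₀.toRingHom
  haveI : Q.IsPrime := Ideal.comap_isPrime _ q
  let P := Localization.AtPrime Q
  have hu : ∀ s : Q.primeCompl,
      IsUnit (((IsScalarTower.toAlgHom R S (Localization.AtPrime q)).comp f₀) s) := fun s =>
    IsLocalization.map_units (Localization.AtPrime q) (⟨f₀ s, s.2⟩ : q.primeCompl)
  let φ : P →ₐ[R] Localization.AtPrime q := IsLocalization.liftAlgHom hu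
  have hφ : Function.Surjective φ := by
    intro x
    obtain ⟨x, ⟨s, hs⟩, rfl⟩ := IsLocalization.exists_mk'_eq q.primeCompl x
    obtain ⟨x, rfl⟩ := hf₀ x
    obtain ⟨s, rfl⟩ := hf₀ s
    refine ⟨IsLocalization.mk' P x (⟨s, hs⟩ : Q.primeCompl), ?_⟩
    simp [φ, IsLocalization.lift_mk', Units.mul_inv_eq_iff_eq_mul, IsUnit.liftRight]
  haveI : IsNoetherianRing P := IsLocalization.isNoetherianRing Q.primeCompl P inferInstance
  haveI : Algebra.FormallyEtale (MvPolynomial (Fin n) R) P := .of_isLocalization Q.primeCompl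
  haveI : Algebra.FormallySmooth R P := .comp _ (MvPolynomial (Fin n) R) _
  haveI : Module.Free P (KaehlerDifferential R P) :=
    .of_equiv (KaehlerDifferential.tensorKaehlerEquivOfFormallyEtale R (MvPolynomial (Fin n) R) P)
  haveI : Module.Finite P (KaehlerDifferential R P) :=
    .equiv (KaehlerDifferential.tensorKaehlerEquivOfFormallyEtale R (MvPolynomial (Fin n) R) P)
  letI := φ.toRingHom.toAlgebra
  haveI : IsScalarTower R P (Localization.AtPrime q) := .of_algebraMap_eq fun r => (φ.commutes r).symm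
  show Algebra.FormallySmooth R (Localization.AtPrime q)
  rw [Algebra.FormallySmooth.iff_injective_cotangentComplexBaseChange_residueField P hφ
    (IsNoetherian.noetherian _), injective_iff_map_eq_zero]
  intro z hz
  set κ := ResidueField (Localization.AtPrime q)
  have hκs : Function.Surjective (algebraMap P κ) := by
    rw [IsScalarTower.algebraMap_eq P (Localization.AtPrime q) κ]
    exact residue_surjective.comp hφ
  have hκk : RingHom.ker (algebraMap P κ) = maximalIdeal P :=
    IsLocalRing.eq_maximalIdeal (RingHom.ker_isMaximal_of_surjective _ hκs)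
  obtain ⟨⟨f, hf⟩, rfl⟩ := TensorProduct.mk_surjective P _ κ hκs z
  rw [TensorProduct.mk_apply, KaehlerDifferential.cotangentComplexBaseChange_tmul, one_smul] at hz
  have hdf : KaehlerDifferential.D R P f ∈ (maximalIdeal P • ⊤ : Submodule P (KaehlerDifferential R P)) := by
    rw [← hκk]
    exact mem_smul_of_one_tmul_eq_zero hκs hz
  refine one_tmul_eq_zero_of_mem ?_
  have hP : q.IsMaximal → ∀ (k : ℕ) (J : Ideal P), maximalIdeal P ^ (k + 1) ≤ J →
      Algebra.FiniteType R (P ⧸ J) := by
    intro hq k J hJ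
    haveI : Q.IsMaximal := Ideal.comap_isMaximal_of_surjective f₀.toRingHom hf₀ (K := q)
    refine Algebra.FiniteType.of_surjective
      ((Ideal.Quotient.mkₐ R J).comp (IsScalarTower.toAlgHom R (MvPolynomial (Fin n) R) P)) fun y => ?_
    obtain ⟨y, rfl⟩ := Ideal.Quotient.mk_surjective y
    obtain ⟨x, s, rfl⟩ := IsLocalization.exists_mk'_eq Q.primeCompl y
    have htop : Ideal.span {(s : MvPolynomial (Fin n) R)} ⊔ Q ^ (k + 1) = ⊤ := by
      refine Ideal.sup_pow_eq_top ?_
      by_contra h
      obtain ⟨M, hM, hle⟩ := Ideal.exists_le_maximal _ h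
      obtain rfl : Q = M := Ideal.IsMaximal.eq_of_le inferInstance hM.ne_top (le_sup_right.trans hle)
      exact s.2 (hle (Ideal.mem_sup_left (Ideal.mem_span_singleton_self _)))
    obtain ⟨a, ha, b, hb, hab⟩ := Submodule.mem_sup.mp ((Ideal.eq_top_iff_one _).mp htop)
    obtain ⟨c, rfl⟩ := Ideal.mem_span_singleton'.mp ha
    have hbJ : algebraMap _ P b ∈ J := hJ (by
      rw [← Localization.AtPrime.map_eq_maximalIdeal, ← Ideal.map_pow]
      exact Ideal.mem_map_of_mem _ hb)
    refine ⟨x * c, Ideal.Quotient.eq.mpr ?_⟩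
    have e : algebraMap _ P (x * c) - IsLocalization.mk' P x s =
        - IsLocalization.mk' P x s * algebraMap _ P b := by
      have hs : IsLocalization.mk' P x s * algebraMap _ P (s : MvPolynomial (Fin n) R) =
          algebraMap _ P x := IsLocalization.mk'_spec P x s
      have h1 : algebraMap _ P c * algebraMap _ P (s : MvPolynomial (Fin n) R) +
          algebraMap _ P b = 1 := by rw [← map_mul, ← map_add, hab, map_one]
      rw [map_mul, ← hs]
      linear_combination (IsLocalization.mk' P x s) * h1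
    show algebraMap _ P (x * c) - IsLocalization.mk' P x s ∈ J
    rw [e]
    exact Ideal.mul_mem_left _ _ hbJ
  have hmem := mem_maximalIdeal_mul_ker q H hP φ hφ hf hdf
  rw [hκk]
  have hmap : Submodule.map (Submodule.subtype (RingHom.ker (algebraMap P (Localization.AtPrime q))))
      (maximalIdeal P • ⊤) = maximalIdeal P * RingHom.ker φ.toRingHom := by
    rw [Submodule.map_smul'', Submodule.map_top, Submodule.range_subtype]
    rfl
  rw [← hmap] at hmem
  obtain ⟨w, hw, hwe⟩ := hmem
  obtain rfl : w = ⟨f, hf⟩ := Subtype.ext hwe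
  exact hw


end Groth.L20.SmoothAt
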