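import Groth.Agent.L20.SmoothAt.Global
import Groth.Agent.L20.SpaceLocal.Main
import Groth.Agent.L23.Points
import Groth.Agent.L23.LocP
import Groth.Prelude.Def_AlgSpDec

/-!
# Lifting along extensions of local rings for morphisms of sheaves with etale charts
-/

set_option autoImplicit false
set_option backward.isDefEq.respectTransparency.types false
set_option linter.style.haveILetI false

universe u

open CategoryTheory CategoryTheory.Limits AlgebraicGeometry AlgSp Groth.L23 IsLocalRing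

noncomputable section

namespace Groth.L20.SmoothAt

variable {S : Scheme.{u}} {X Y : Sp S} {f : X ⟶ Y}

theorem isThickening_specMap {B' B : Type u} [CommRing B'] [CommRing B] (π : B' →+* B)
    (hπ : Function.Surjective π) (hnil : ∀ x ∈ RingHom.ker π, IsNilpotent x) :
    MoreMor.IsThickening (Spec.map (CommRingCat.ofHom π)) := by
  refine ⟨IsClosedImmersion.spec_of_surjective (CommRingCat.ofHom π) hπ,
    ⟨fun (p : PrimeSpectrum B') => ?_⟩⟩
  have hp : p ∈ PrimeSpectrum.zeroLocus (RingHom.ker π : Set B') := by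
    rw [PrimeSpectrum.mem_zeroLocus]
    intro x hx
    obtain ⟨n, hn⟩ := hnil x hx
    exact p.2.mem_of_pow_mem n (hn ▸ zero_mem _)
  rw [← range_comap_of_surjective _ π hπ] at hp
  exact hp

/-- A lift through an etale chart of a lift downstairs. -/
theorem exists_lift_in_chart {U V : Over S} {a : (yon S).obj U ⟶ X} {b : (yon S).obj V ⟶ Y}
    {h : U ⟶ V} (ha : RepWith @Etale a) (hb : RepWith @Etale b) (wc : a ≫ f = (yon S).map h ≫ b)
    {T T' : Over S} (j : T ⟶ T') (hj : MoreMor.IsThickening j.left) (u₀ : T ⟶ U) (v : T' ⟶ V)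
    (w : u₀ ≫ h = j ≫ v) (γ : (yon S).obj T' ⟶ X) (h₁ : (yon S).map j ≫ γ = (yon S).map u₀ ≫ a)
    (h₂ : γ ≫ f = (yon S).map v ≫ b) : ∃ l : T' ⟶ U, j ≫ l = u₀ ∧ l ≫ h = v := by
  obtain ⟨L, ⟨hL₁, hL₂⟩, -⟩ := etale_thick_lift ha j hj ((yon S).map u₀) γ h₁.symm
  obtain ⟨l, rfl⟩ := (yon S).map_surjective L
  have e₁ : j ≫ l = u₀ := (yon S).map_injective (by rw [Functor.map_comp, hL₁])
  refine ⟨l, e₁, (yon S).map_injective ?_⟩
  obtain ⟨L', -, hu⟩ := etale_thick_lift hb j hj ((yon S).map (j ≫ v)) ((yon S).map v ≫ b)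
    (by rw [Functor.map_comp, Category.assoc])
  refine (hu _ ⟨?_, ?_⟩).trans (hu _ ⟨(Functor.map_comp _ _ _).symm, rfl⟩).symm
  · rw [← Functor.map_comp, ← Category.assoc, e₁, w]
  · rw [Functor.map_comp, Category.assoc, ← wc, ← Category.assoc, hL₂, h₂]

section Morphisms

variable {B' B : Type u} [CommRing B'] [CommRing B] [IsLocalRing B'] [IsLocalRing B]

theorem exists_schemeLift {U V : Over S} {a : (yon S).obj U ⟶ X} {b : (yon S).obj V ⟶ Y}
    {h : U ⟶ V} (ha : RepWith @Etale a) (hb : RepWith @Etale b) (wc : a ≫ f = (yon S).map h ≫ b)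
    (π : B' →+* B) (hπ : Function.Surjective π) (hnil : ∀ x ∈ RingHom.ker π, IsNilpotent x)
    (α₀ : Spec (CommRingCat.of B) ⟶ U.left) (β₀ : Spec (CommRingCat.of B') ⟶ V.left)
    (w : Spec.map (CommRingCat.ofHom π) ≫ β₀ = α₀ ≫ h.left)
    (hγ : ∀ (α : (yon S).obj (Over.mk (Spec.map (CommRingCat.ofHom π) ≫ β₀ ≫ V.hom)) ⟶ X)
      (β : (yon S).obj (Over.mk (β₀ ≫ V.hom)) ⟶ Y),
      (∀ hw : α₀ ≫ U.hom = Spec.map (CommRingCat.ofHom π) ≫ β₀ ≫ V.hom,
        α = (yon S).map (Over.homMk α₀ hw) ≫ a) →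
      β = (yon S).map (Over.homMk β₀ rfl : Over.mk (β₀ ≫ V.hom) ⟶ V) ≫ b →
      α ≫ f = (yon S).map (Over.homMk (Spec.map (CommRingCat.ofHom π)) :
        Over.mk (Spec.map (CommRingCat.ofHom π) ≫ β₀ ≫ V.hom) ⟶ Over.mk (β₀ ≫ V.hom)) ≫ β →
      ∃ γ : (yon S).obj (Over.mk (β₀ ≫ V.hom)) ⟶ X,
        (yon S).map (Over.homMk (Spec.map (CommRingCat.ofHom π)) :
          Over.mk (Spec.map (CommRingCat.ofHom π) ≫ β₀ ≫ V.hom) ⟶ Over.mk (β₀ ≫ V.hom)) ≫ γ = α ∧
        γ ≫ f = β) :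
    ∃ γ₀ : Spec (CommRingCat.of B') ⟶ U.left,
      Spec.map (CommRingCat.ofHom π) ≫ γ₀ = α₀ ∧ γ₀ ≫ h.left = β₀ := by
  have hw : α₀ ≫ U.hom = Spec.map (CommRingCat.ofHom π) ≫ β₀ ≫ V.hom := by
    rw [← Over.w h, ← Category.assoc, ← w, Category.assoc]
  let j : Over.mk (Spec.map (CommRingCat.ofHom π) ≫ β₀ ≫ V.hom) ⟶ Over.mk (β₀ ≫ V.hom) :=
    Over.homMk (Spec.map (CommRingCat.ofHom π))
  let αO : Over.mk (Spec.map (CommRingCat.ofHom π) ≫ β₀ ≫ V.hom) ⟶ U := Over.homMk α₀ hw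
  let βO : Over.mk (β₀ ≫ V.hom) ⟶ V := Over.homMk β₀ rfl
  have e : αO ≫ h = j ≫ βO := Over.OverMorphism.ext w.symm
  obtain ⟨γ, h₁, h₂⟩ := hγ ((yon S).map αO ≫ a) ((yon S).map βO ≫ b) (fun _ => rfl) rfl (by
    rw [Category.assoc, wc, ← Functor.map_comp_assoc, e, Functor.map_comp_assoc])
  obtain ⟨l, hl₁, hl₂⟩ := exists_lift_in_chart ha hb wc j (isThickening_specMap π hπ hnil) αO βO e
    γ h₁ h₂
  exact ⟨l.left, congr($(hl₁).left), congr($(hl₂).left)⟩

theorem exists_lift_of_smooth_chart {U V : Over S} {a : (yon S).obj U ⟶ X}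
    {b : (yon S).obj V ⟶ Y} {h : U ⟶ V} (ha : RepWith @Etale a) (hb : RepWith @Etale b)
    (wc : a ≫ f = (yon S).map h ≫ b) (hh : Smooth h.left)
    (π : B' →+* B) (hπ : Function.Surjective π) (hsq : RingHom.ker π ^ 2 = ⊥)
    (s : Spec (CommRingCat.of B') ⟶ S)
    (α : (yon S).obj (Over.mk (Spec.map (CommRingCat.ofHom π) ≫ s)) ⟶ X)
    (β : (yon S).obj (Over.mk s) ⟶ Y)
    (hα : Points.ofPt α (closedPoint B) ∈ Set.range (Points.ofPt a))
    (w : α ≫ f = (yon S).map (Over.homMk (Spec.map (CommRingCat.ofHom π)) :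
      Over.mk (Spec.map (CommRingCat.ofHom π) ≫ s) ⟶ Over.mk s) ≫ β) :
    ∃ γ : (yon S).obj (Over.mk s) ⟶ X,
      (yon S).map (Over.homMk (Spec.map (CommRingCat.ofHom π)) :
        Over.mk (Spec.map (CommRingCat.ofHom π) ≫ s) ⟶ Over.mk s) ≫ γ = α ∧ γ ≫ f = β := by
  let I := RingHom.ker π
  let ε := RingHom.quotientKerEquivOfSurjective hπ
  have hε : ε.toRingHom.comp (Ideal.Quotient.mk I) = π := RingHom.ext fun a => rfl
  have hε' : Spec.map (CommRingCat.ofHom ε.toRingHom) ≫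
      Spec.map (CommRingCat.ofHom (Ideal.Quotient.mk I)) = Spec.map (CommRingCat.ofHom π) := by
    rw [← Spec.map_comp, ← CommRingCat.ofHom_comp, hε]
  have hε'' : Spec.map (CommRingCat.ofHom ε.symm.toRingHom) ≫
      Spec.map (CommRingCat.ofHom π) = Spec.map (CommRingCat.ofHom (Ideal.Quotient.mk I)) := by
    rw [← Spec.map_comp, ← CommRingCat.ofHom_comp]
    congr 2
    exact RingHom.ext fun a => ε.symm_apply_apply (Ideal.Quotient.mk I a)
  let κ : Over.mk (Spec.map (CommRingCat.ofHom (Ideal.Quotient.mk I)) ≫ s) ⟶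
      Over.mk (Spec.map (CommRingCat.ofHom π) ≫ s) :=
    Over.homMk (Spec.map (CommRingCat.ofHom ε.symm.toRingHom)) (by
      show Spec.map _ ≫ Spec.map _ ≫ s = _
      rw [← Category.assoc, hε'']
      rfl)
  let κ' : Over.mk (Spec.map (CommRingCat.ofHom π) ≫ s) ⟶
      Over.mk (Spec.map (CommRingCat.ofHom (Ideal.Quotient.mk I)) ≫ s) :=
    Over.homMk (Spec.map (CommRingCat.ofHom ε.toRingHom)) (by
      show Spec.map _ ≫ Spec.map _ ≫ s = _
      rw [← Category.assoc, hε']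
      rfl)
  let jπ : Over.mk (Spec.map (CommRingCat.ofHom π) ≫ s) ⟶ Over.mk s :=
    Over.homMk (Spec.map (CommRingCat.ofHom π))
  let sq : InfSq f :=
    { A := B'
      I := I
      sq_zero := hsq
      str := s
      top := (yon S).map κ ≫ α
      bot := β
      comm := by
        rw [Category.assoc, w, ← Functor.map_comp_assoc]
        congr 2
        exact Over.OverMorphism.ext hε'' }
  have hopen : IsOpen (Points.ofPt α ⁻¹' Set.range (Points.ofPt a)) :=
    (isOpenMap_ofPt ha).isOpen_range.preimage (Points.continuous_ofPt α)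
  obtain ⟨L, hL₁, hL₂⟩ := Groth.L20.SpaceLocal.exists_lift_of_chart ha hb wc
    ((Groth.Agent.S1488.result h.left).1 hh).2 sq fun y => by
      show Points.ofPt ((yon S).map κ ≫ α) y ∈ _
      rw [ofPt_comp]
      exact (IsLocalRing.specializes_closedPoint (R := B) (κ.left y)).mem_open hopen hα
  refine ⟨L, ?_, hL₂⟩
  have e : jπ = κ' ≫ sq.j := Over.OverMorphism.ext hε'.symm
  have e' : κ' ≫ κ = 𝟙 _ := Over.OverMorphism.ext (by
    show Spec.map _ ≫ Spec.map _ = 𝟙 _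
    rw [← Spec.map_comp, ← CommRingCat.ofHom_comp, ← Spec.map_id]
    congr 1
    refine CommRingCat.hom_ext (RingHom.ext fun a => ?_)
    exact ε.apply_symm_apply a)
  show (yon S).map jπ ≫ L = α
  rw [e, Functor.map_comp, Category.assoc, hL₁, ← Functor.map_comp_assoc, e', CategoryTheory.Functor.map_id,
    Category.id_comp]

end Morphisms

theorem locP_lft_map_comp (hY : IsAlgSpace Y) {T V : Over S} {b : (yon S).obj V ⟶ Y}
    (hb : RepWith @Etale b) (β : T ⟶ V) (hβ : LocallyOfFiniteType β.left) :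
    LocP @LocallyOfFiniteType ((yon S).map β ≫ b) := by
  have := etLocal_lft.stable
  exact locP_comp etLocal_lft (IsAlgSpace.yon_obj T) (IsAlgSpace.yon_obj V) hY
    (locP_of_repWith etLocal_lft (repWith_map hβ))
    (locP_of_repWith etLocal_lft (repWith_mono (fun φ hφ => etLocal_lft.etale φ hφ) hb))

theorem ker_sq_of_small {B' B : Type u} [CommRing B'] [CommRing B] [IsLocalRing B'] [IsLocalRing B]
    (π : B' →+* B) (h : ∃ t : B', RingHom.ker π = Ideal.span {t} ∧ ∀ a ∈ maximalIdeal B', a * t = 0) :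
    RingHom.ker π ^ 2 = ⊥ := by
  obtain ⟨t, ht, htm⟩ := h
  have htmem : t ∈ maximalIdeal B' := by
    refine le_maximalIdeal (RingHom.ker_ne_top π) ?_
    rw [ht]
    exact Ideal.mem_span_singleton_self t
  rw [ht, Ideal.span_singleton_pow, pow_two, htm t htmem, Ideal.span_singleton_eq_bot.2 rfl]

end Groth.L20.SmoothAt
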